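import Cfsg.Agent.H700.PwU.Main
import Cfsg.Agent.H950.UHerm
import Cfsg.Agent.H78.Pw.Base

/-!
# S2465: `PSU_n(q)`, `n ≥ 4`: every element is a product of two `l`-elements, `l ≥ 5` a prime not dividing `q`
(helper700)
-/

set_option autoImplicit false

namespace Cfsg.Agent.H700.PwU

open Cfsg.Agent.H78.Pw

/-- in `SU_n(q)` -/
theorem su_pr {F : Type*} [Field F] [Fintype F] (n q : ℕ) (hn : 4 ≤ n) (hF : Fintype.card F = q ^ 2)
    (g : Cfsg.SU n F q)
    (hs : ∀ c : F, Matrix.toLin' ((g : Matrix.SpecialLinearGroup (Fin n) F) : Matrix (Fin n) (Fin n) F) ≠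
      c • (1 : Module.End F (Fin n → F))) :
    ∃ l : ℕ, l.Prime ∧ 5 ≤ l ∧ ¬ l ∣ q ∧ ∃ a b : Cfsg.SU n F q, g = a * b ∧ (∃ c, orderOf a ∣ l ^ c) ∧
      ∃ c, orderOf b ∣ l ^ c := by
  have hB : Cfsg.Agent.H98.Ore.HS q (Cfsg.Agent.H950.cj hF) (Cfsg.hermForm n F q) :=
    ⟨hF, Cfsg.Agent.H950.cj_apply hF, Cfsg.Agent.H950.frm_herm hF n,
      fun u hu => Cfsg.Agent.LieClassical.HermBasic.herm_nondeg hF hu⟩
  have hfr : Module.finrank F (Fin n → F) = n := Module.finrank_fin_fun F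
  have hdet : ∀ x : Matrix.SpecialLinearGroup (Fin n) F,
      LinearMap.det (Matrix.toLin' (x : Matrix (Fin n) (Fin n) F)) = 1 := by
    intro x
    rw [LinearMap.det_toLin']
    exact x.2
  obtain ⟨l, hl, hl5, hlq, z, h, hz, hh, ⟨c, hc⟩, ⟨d, hd⟩, heq⟩ := pw_all hB (by rw [hfr]; exact hn)
    (Cfsg.Agent.H950.isom_of_SU g.2) (hdet g.1) hs
  have e1 : ∀ x y : Cfsg.SU n F q, Matrix.toLin' (((x * y : Cfsg.SU n F q) : Matrix.SpecialLinearGroup (Fin n) F) :
      Matrix (Fin n) (Fin n) F) = Matrix.toLin' ((x : Matrix.SpecialLinearGroup (Fin n) F) : Matrix (Fin n) (Fin n) F) *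
        Matrix.toLin' ((y : Matrix.SpecialLinearGroup (Fin n) F) : Matrix (Fin n) (Fin n) F) := by
    intro x y
    rw [Module.End.mul_eq_comp, ← Matrix.toLin'_mul]
    rfl
  have e2 : ∀ (x : Cfsg.SU n F q) (k : ℕ), Matrix.toLin' (((x ^ k : Cfsg.SU n F q) :
      Matrix.SpecialLinearGroup (Fin n) F) : Matrix (Fin n) (Fin n) F) =
        Matrix.toLin' ((x : Matrix.SpecialLinearGroup (Fin n) F) : Matrix (Fin n) (Fin n) F) ^ k := by
    intro x k
    induction k with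
    | zero =>
      rw [pow_zero, pow_zero]
      exact Matrix.toLin'_one
    | succ k ih => rw [pow_succ, e1, ih, pow_succ]
  have hmk : ∀ x : (Fin n → F) ≃ₗ[F] (Fin n → F), x ∈ Cfsg.Agent.H98.Ore.SGr (Cfsg.hermForm n F q) →
      ∃ y : Cfsg.SU n F q, Matrix.toLin' ((y : Matrix.SpecialLinearGroup (Fin n) F) : Matrix (Fin n) (Fin n) F) =
        (x : (Fin n → F) →ₗ[F] (Fin n → F)) ∧ orderOf y ∣ orderOf x := by
    intro x hx
    obtain ⟨hx1, hxd⟩ := Cfsg.Agent.H98.Ore.mem_SGr.1 hx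
    let y₀ : Matrix.SpecialLinearGroup (Fin n) F := ⟨LinearMap.toMatrix' (x : (Fin n → F) →ₗ[F] (Fin n → F)), by
      rw [LinearMap.det_toMatrix', hxd]⟩
    have h1 : Matrix.toLin' (y₀ : Matrix (Fin n) (Fin n) F) = (x : (Fin n → F) →ₗ[F] (Fin n → F)) :=
      Matrix.toLin'_toMatrix' _
    refine ⟨⟨y₀, Cfsg.Agent.H950.mem_SU_of_isom (by rw [h1]; exact hx1)⟩, h1, ?_⟩
    rw [orderOf_dvd_iff_pow_eq_one]
    apply Subtype.ext
    apply Subtype.ext
    apply Matrix.toLin'.injective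
    refine (e2 _ _).trans ?_
    rw [h1]
    have h2 : ∀ k : ℕ, ((x : (Fin n → F) →ₗ[F] (Fin n → F)) : Module.End F (Fin n → F)) ^ k =
        ((x ^ k : (Fin n → F) ≃ₗ[F] (Fin n → F)) : (Fin n → F) →ₗ[F] (Fin n → F)) := by
      intro k
      induction k with
      | zero => rfl
      | succ k ih => rw [pow_succ, ih, pow_succ]; rfl
    refine (h2 _).trans ?_
    rw [pow_orderOf_eq_one]
    exact Matrix.toLin'_one.symm
  obtain ⟨a, ha, ha'⟩ := hmk z hz
  obtain ⟨b, hb, hb'⟩ := hmk h hh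
  refine ⟨l, hl, hl5, hlq, a, b, ?_, ⟨c, ha'.trans hc⟩, ⟨d, hb'.trans hd⟩⟩
  apply Subtype.ext
  apply Subtype.ext
  apply Matrix.toLin'.injective
  refine Eq.trans ?_ (e1 a b).symm
  rw [ha, hb]
  apply LinearMap.ext
  intro v
  exact heq v

/-- **in `PSU_n(q)`** -/
theorem psu_pr {F : Type*} [Field F] [Fintype F] (n q : ℕ) (hn : 4 ≤ n) (hF : Fintype.card F = q ^ 2)
    (g : Cfsg.PSU n F q) :
    ∃ l : ℕ, l.Prime ∧ 5 ≤ l ∧ ¬ l ∣ q ∧ ∃ a b : Cfsg.PSU n F q, g = a * b ∧ (∃ c, orderOf a ∣ l ^ c) ∧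
      ∃ c, orderOf b ∣ l ^ c := by
  obtain ⟨x, rfl⟩ := QuotientGroup.mk_surjective g
  by_cases hs : ∃ c : F, Matrix.toLin' ((x : Matrix.SpecialLinearGroup (Fin n) F) : Matrix (Fin n) (Fin n) F) =
      c • (1 : Module.End F (Fin n → F))
  · -- a scalar
    obtain ⟨c, hc⟩ := hs
    have hx : x ∈ Subgroup.center (Cfsg.SU n F q) := by
      rw [Subgroup.mem_center_iff]
      intro y
      apply Subtype.ext
      apply Subtype.ext
      apply Matrix.toLin'.injective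
      have e1 : ∀ x y : Cfsg.SU n F q, Matrix.toLin' (((x * y : Cfsg.SU n F q) :
          Matrix.SpecialLinearGroup (Fin n) F) : Matrix (Fin n) (Fin n) F) =
          Matrix.toLin' ((x : Matrix.SpecialLinearGroup (Fin n) F) : Matrix (Fin n) (Fin n) F) *
            Matrix.toLin' ((y : Matrix.SpecialLinearGroup (Fin n) F) : Matrix (Fin n) (Fin n) F) := by
        intro x y
        rw [Module.End.mul_eq_comp, ← Matrix.toLin'_mul]
        rfl
      refine (e1 y x).trans ((e1 x y).trans ?_).symm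
      rw [hc, smul_mul_assoc, one_mul, mul_smul_comm, mul_one]
    obtain ⟨l, hl1, hl2⟩ := Nat.exists_infinite_primes (5 + q)
    have hq : 0 < q := by
      rcases Nat.eq_zero_or_pos q with h | h
      · rw [h] at hF
        exact absurd hF (by simp)
      · exact h
    refine ⟨l, hl2, by omega, fun h => ?_, 1, 1, ?_, ⟨0, by rw [orderOf_one]; exact one_dvd _⟩,
      ⟨0, by rw [orderOf_one]; exact one_dvd _⟩⟩
    · have := Nat.le_of_dvd hq h
      omega
    · rw [mul_one]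
      exact (QuotientGroup.eq_one_iff x).2 hx
  · push Not at hs
    obtain ⟨l, hl, hl5, hlq, a, b, hab, ⟨c, hc⟩, d, hd⟩ := su_pr n q hn hF x hs
    refine ⟨l, hl, hl5, hlq, QuotientGroup.mk a, QuotientGroup.mk b, by rw [hab]; rfl,
      ⟨c, (orderOf_map_dvd (QuotientGroup.mk' (Subgroup.center (Cfsg.SU n F q))) a).trans hc⟩,
      ⟨d, (orderOf_map_dvd (QuotientGroup.mk' (Subgroup.center (Cfsg.SU n F q))) b).trans hd⟩⟩

/-- **Row, general form**: `N` whose prime factors are `2, 3` or divide `q` -/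
theorem all_psu {F : Type*} [Field F] [Fintype F] (n q : ℕ) (hn : 4 ≤ n) (hF : Fintype.card F = q ^ 2) {N : ℕ}
    (hN : ∀ l : ℕ, l.Prime → 5 ≤ l → ¬ l ∣ q → ¬ l ∣ N) : All N (Cfsg.PSU n F q) := by
  intro g
  obtain ⟨l, hl, hl5, hlq, a, b, hab, ⟨c, hc⟩, d, hd⟩ := psu_pr n q hn hF g
  have h1 : Nat.Coprime l N := (hl.coprime_iff_not_dvd).2 (hN l hl hl5 hlq)
  exact ⟨a, b, hab, Nat.Coprime.of_dvd_left hc (h1.pow_left _), Nat.Coprime.of_dvd_left hd (h1.pow_left _)⟩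

/-- **(I)** for `PSU_n(q)`, `n ≥ 4` -/
theorem six_psu {F : Type*} [Field F] [Fintype F] (n q : ℕ) (hn : 4 ≤ n) (hF : Fintype.card F = q ^ 2) :
    All 6 (Cfsg.PSU n F q) := by
  apply all_psu n q hn hF
  intro l hl hl5 _ h
  have h1 := Nat.le_of_dvd (by norm_num) h
  have h2 : l = 5 ∨ l = 6 := by omega
  rcases h2 with rfl | rfl
  · revert h; decide
  · revert hl; decide

/-- **(R5)**, own characteristic, for `PSU_n(q)`, `n ≥ 4` -/
theorem own_psu {F : Type*} [Field F] [Fintype F] (n q : ℕ) (hn : 4 ≤ n) (hF : Fintype.card F = q ^ 2) {p : ℕ}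
    (hp : p.Prime) (hpq : p ∣ q) : All p (Cfsg.PSU n F q) := by
  apply all_psu n q hn hF
  intro l hl _ hlq h
  apply hlq
  rwa [(Nat.prime_dvd_prime_iff_eq hl hp).1 h]

end Cfsg.Agent.H700.PwU
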