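import Cfsg.Agent.H984.Ore.Frame
import Cfsg.Agent.H951.OreU.Frame
import Cfsg.Agent.H98.Ore.FrameA

/-!
# A frame for `c + (rank one anisotropic)` in odd dimension (helper700)
-/

set_option autoImplicit false
set_option linter.unusedSectionVars false

namespace Cfsg.Agent.H700.PwU

open Module Polynomial Cfsg.Agent.H951 Matrix Cfsg.Agent.H98.Ore

variable {F : Type*} {V : Type*} [Field F] [Fintype F] [AddCommGroup V] [Module F V] [FiniteDimensional F V]
  {q : ℕ} {σ : F →+* F} {B : V → V → F}

theorem frame_aniso (hB : HS q σ B) {m : ℕ} (hn : finrank F V = 2 * (m + 2) + 1) {g : End F V} {c k : F}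
    {e : V} (hc : c ≠ 0) (hk : k ≠ 0) (hee : B e e ≠ 0) (hgv : ∀ v, g v = c • v + (k * B v e) • e) :
    ∃ u φ : Fin (m + 2) → F, u ≠ 0 ∧ φ ≠ 0 ∧ φ ⬝ᵥ u = 0 ∧
      Cor B g (c • ((1 : Matrix (Fin (m + 2)) (Fin (m + 2)) F) + Matrix.vecMulVec u φ)) := by
  have he0 : e ≠ 0 := by
    rintro rfl
    exact hee (hB.frm.zero_left _)
  have hnd := Cfsg.Agent.H984.Ore.nd_span_singleton hB hee
  have hle : Submodule.span F {e} ≤ (⊤ : Submodule F V) := le_top
  have h1 := hB.frm.finrank_perp_inf hnd hle
  rw [finrank_span_singleton he0, finrank_top] at h1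
  obtain ⟨v, v', hv, hv', hfr⟩ := Cfsg.Agent.H984.Ore.exists_frame_aux hB (m + 2) _
    (hB.frm.nd_perp_inf (Cfsg.Agent.H984.Ore.nd_top hB) hnd hle) (Or.inl (by omega))
  have hve : ∀ i, B (v i) e = 0 := fun i => (hv i).1 e (Submodule.mem_span_singleton_self e)
  have hve' : ∀ i, B (v' i) e = 0 := fun i => (hv' i).1 e (Submodule.mem_span_singleton_self e)
  have hev : ∀ i, B e (v i) = 0 := fun i => hB.frm.eq_zero_comm.1 (hve i)
  have hev' : ∀ i, B e (v' i) = 0 := fun i => hB.frm.eq_zero_comm.1 (hve' i)
  have hfix : σ (B e e) = B e e := Cfsg.Agent.H951.OreU.self_fix hB e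
  obtain ⟨β, hβ⟩ := Cfsg.Agent.H951.OreU.exists_tr hB (c := -B e e) (by rw [map_neg, hfix])
  have hd' := hfr.dual' hB
  set N := B e e with hN
  let w : Fin (m + 2) → V := fun i => if i = 1 then v 1 + e + β • v' 1 else v i
  let w' : Fin (m + 2) → V := fun i => if i = 0 then v' 0 + e + β • v 0 + (-N) • v' 1 else v' i
  have h10 : (1 : Fin (m + 2)) ≠ 0 := by simp
  have hw : Fr B w w' := by
    refine ⟨fun i j => ?_, fun i j => ?_, fun i j => ?_⟩
    · by_cases hi : i = 1 <;> by_cases hj : j = 1
      all_goals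
        simp only [w, hi, hj, if_true, if_false, hB.frm.add_left, hB.frm.add_right, hB.frm.smul_left,
          hB.frm.smul_right, hve, hve', hev, hev', hfr.ww, hfr.ww', hfr.dual, hd', ← hN, map_neg, hfix]
      · linear_combination hβ
      · simp [Ne.symm hj]
      · simp [hi]
    · by_cases hi : i = 1 <;> by_cases hj : j = 0
      all_goals
        simp only [w, w', hi, hj, if_true, if_false, hB.frm.add_left, hB.frm.add_right, hB.frm.smul_left,
          hB.frm.smul_right, hve, hve', hev, hev', hfr.ww, hfr.ww', hfr.dual, hd', ← hN, map_neg, hfix]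
      · simp [h10, h10.symm]
      · simp
      · simp [hi]
    · by_cases hi : i = 0 <;> by_cases hj : j = 0
      all_goals
        simp only [w', hi, hj, if_true, if_false, hB.frm.add_left, hB.frm.add_right, hB.frm.smul_left,
          hB.frm.smul_right, hve, hve', hev, hev', hfr.ww, hfr.ww', hfr.dual, hd', ← hN, map_neg, hfix]
      · simp [h10, h10.symm]
        linear_combination hβ
      · simp [Ne.symm hj]
      · simp [hi]
  have hwe : ∀ j, B (w j) e = if j = 1 then N else 0 := by
    intro j
    by_cases hj : j = 1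
    · simp only [w, hj, if_true, hB.frm.add_left, hB.frm.smul_left, hve, hve', ← hN]
      ring
    · simp only [w, hj, if_false, hve]
  have hew : ∀ i, B e (w' i) = if i = 0 then N else 0 := by
    intro i
    by_cases hi : i = 0
    · simp only [w', hi, if_true, hB.frm.add_right, hB.frm.smul_right, hev, hev', ← hN]
      ring
    · simp only [w', hi, if_false, hev']
  refine ⟨fun i => if i = 0 then c⁻¹ * k * N else 0, fun j => if j = 1 then N else 0, ?_, ?_, ?_, w, w', hw, fun i j => ?_⟩
  · intro h
    have h2 := congrFun h 0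
    simp only [if_true, Pi.zero_apply] at h2
    exact (mul_ne_zero (mul_ne_zero (inv_ne_zero hc) hk) hee) h2
  · intro h
    have h2 := congrFun h 1
    simp only [if_true, Pi.zero_apply] at h2
    exact hee h2
  · rw [dotProduct, Finset.sum_eq_zero]
    intro i _
    by_cases hi : i = 1
    · rw [hi, if_neg h10, mul_zero]
    · rw [if_neg hi, zero_mul]
  · rw [hgv, hB.frm.add_left, hB.frm.smul_left, hB.frm.smul_left, hw.dual, hwe, hew, Matrix.smul_apply, Matrix.add_apply,
      Matrix.one_apply, Matrix.vecMulVec_apply, smul_eq_mul]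
    by_cases hij : i = j
    · subst hij
      simp only [if_true]
      by_cases hi : i = 0
      · rw [hi]; simp
      · simp [hi]
    · rw [if_neg hij, if_neg (Ne.symm hij)]
      by_cases hi : i = 0 <;> by_cases hj : j = 1
      · simp only [hi, hj, if_true]
        field_simp
        try ring
      all_goals simp [hi, hj]

end Cfsg.Agent.H700.PwU
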