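import Cfsg.Agent.H117.OrePoly
import Cfsg.Agent.Lib.Zsigmondy

/-!
# Polynomials of prime order for the special unitary group (S2465, PSU; helper700)
-/

set_option autoImplicit false

namespace Cfsg.Agent.H700.PwU

open Module Polynomial Matrix

/-- the prime -/
theorem exists_prime {q m : ℕ} (hq : 2 ≤ q) (hm : 2 ≤ m) : ∃ l : ℕ, l.Prime ∧ 5 ≤ l ∧ ¬ l ∣ q ∧
    (∀ d : ℕ, l ∣ (q ^ 2) ^ d - 1 → m ∣ d) ∧ l ∣ (q ^ 2) ^ m - 1 ∧ (∀ j : ℕ, ¬ l ∣ q ^ (2 * j + 1) + 1) := by
  obtain ⟨n, hn3, hn6, hnm, hcase⟩ : ∃ n : ℕ, 3 ≤ n ∧ ¬ (q = 2 ∧ n = 6) ∧ n ∣ 2 * m ∧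
      ((Even m ∧ n = 2 * m) ∨ (Odd m ∧ n = m)) := by
    rcases Nat.even_or_odd m with h | h
    · refine ⟨2 * m, by omega, ?_, dvd_rfl, Or.inl ⟨h, rfl⟩⟩
      rintro ⟨-, h6⟩
      have : m = 3 := by omega
      subst this
      exact absurd h (by decide)
    · refine ⟨m, ?_, ?_, Dvd.intro_left 2 rfl, Or.inr ⟨h, rfl⟩⟩
      · obtain ⟨k, hk⟩ := h
        omega
      · rintro ⟨-, h6⟩
        subst h6
        exact absurd h (by decide)
  obtain ⟨l, hl, hord⟩ := Lib.Zsigmondy.exists_prime_orderOf (a := q) (n := n) hq (by omega) (by omega) (by omega)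
  have hlf : Fact l.Prime := ⟨hl⟩
  have hlq : ¬ l ∣ q := by
    intro h
    have h1 : ((q : ℕ) : ZMod l) = 0 := (ZMod.natCast_eq_zero_iff _ _).2 h
    rw [h1, orderOf_eq_zero] at hord
    · omega
    · rw [isOfFinOrder_iff_pow_eq_one]
      rintro ⟨k, hk, hk1⟩
      rw [zero_pow (by omega)] at hk1
      exact zero_ne_one hk1
  have key : ∀ k : ℕ, l ∣ q ^ k - 1 ↔ n ∣ k := by
    intro k
    rw [← hord, orderOf_dvd_iff_pow_eq_one, ← Nat.cast_pow, ← sub_eq_zero]
    have h1 : ((q ^ k : ℕ) : ZMod l) - 1 = ((q ^ k - 1 : ℕ) : ZMod l) := by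
      rw [Nat.cast_sub (Nat.one_le_pow _ _ (by omega)), Nat.cast_one]
    rw [h1, ZMod.natCast_eq_zero_iff]
  have hln : n ∣ l - 1 := by
    rw [← key]
    have h1 := ZMod.pow_card_sub_one_eq_one (p := l) (a := (q : ZMod l)) (by
      rw [Ne, ZMod.natCast_eq_zero_iff]
      exact hlq)
    have h2 : ((q ^ (l - 1) - 1 : ℕ) : ZMod l) = 0 := by
      rw [Nat.cast_sub (Nat.one_le_pow _ _ (by omega)), Nat.cast_one, Nat.cast_pow, h1, sub_self]
    exact (ZMod.natCast_eq_zero_iff _ _).1 h2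
  have hl1 : n ≤ l - 1 := Nat.le_of_dvd (by have := hl.two_le; omega) hln
  have hl5 : 5 ≤ l := by
    by_contra hlt
    have h3 : l = 4 := by omega
    rw [h3] at hl
    exact absurd hl (by norm_num)
  refine ⟨l, hl, hl5, hlq, ?_, ?_, ?_⟩
  · intro d hd
    rw [← pow_mul, key] at hd
    rcases hcase with ⟨-, h⟩ | ⟨h, h'⟩
    · rw [h] at hd
      exact Nat.dvd_of_mul_dvd_mul_left (by norm_num) hd
    · rw [h'] at hd
      exact (Nat.Coprime.dvd_of_dvd_mul_left (Nat.Coprime.symm (Nat.coprime_two_left.2 h)) hd)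
  · rw [← pow_mul, key]
    exact hnm
  · intro j hj
    have h1 : l ∣ q ^ (2 * (2 * j + 1)) - 1 := by
      have h2 : q ^ (2 * (2 * j + 1)) - 1 = (q ^ (2 * j + 1) + 1) * (q ^ (2 * j + 1) - 1) := by
        rw [two_mul (2 * j + 1), pow_add]
        obtain ⟨x, hx⟩ : ∃ x, q ^ (2 * j + 1) = x + 1 := ⟨q ^ (2 * j + 1) - 1, by
          have : 1 ≤ q ^ (2 * j + 1) := Nat.one_le_pow _ _ (by omega)
          omega⟩
        rw [hx, Nat.add_sub_cancel]
        have : (x + 1) * (x + 1) = (x + 1 + 1) * x + 1 := by ring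
        omega
      rw [h2]
      exact Dvd.dvd.mul_right hj _
    have h3 : ¬ n ∣ 2 * j + 1 := by
      intro h
      have h4 := (key _).2 h
      have h5 : l ∣ (q ^ (2 * j + 1) + 1) - (q ^ (2 * j + 1) - 1) := Nat.dvd_sub hj h4
      have h6 : 1 ≤ q ^ (2 * j + 1) := Nat.one_le_pow _ _ (by omega)
      have h7 : (q ^ (2 * j + 1) + 1) - (q ^ (2 * j + 1) - 1) = 2 := by omega
      rw [h7] at h5
      have := Nat.le_of_dvd (by norm_num) h5
      omega
    rw [key] at h1
    rcases hcase with ⟨h, h'⟩ | ⟨h, h'⟩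
    · rw [h'] at h1
      have h4 : m ∣ 2 * j + 1 := Nat.dvd_of_mul_dvd_mul_left (by norm_num) h1
      have h5 : 2 ∣ 2 * j + 1 := (even_iff_two_dvd.1 h).trans h4
      omega
    · rw [h'] at h1 h3
      exact h3 (Nat.Coprime.dvd_of_dvd_mul_left (Nat.Coprime.symm (Nat.coprime_two_left.2 h)) h1)

/-- **the polynomial** -/
theorem exists_poly {F : Type*} [Field F] [Fintype F] {q : ℕ} (hF : Fintype.card F = q ^ 2) (σ : F →+* F)
    (hσ : ∀ a, σ a = a ^ q) {m : ℕ} (hm : 2 ≤ m) :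
    ∃ (l : ℕ) (f : F[X]), l.Prime ∧ 5 ≤ l ∧ ¬ l ∣ q ∧ f ∣ X ^ l - 1 ∧
      Irreducible f ∧ f.Monic ∧ f.natDegree = m ∧ σ (f.coeff 0) = f.coeff 0 ∧
      IsCoprime f (f.map σ).reverse ∧ ∀ c : F, c ^ (q + 1) = 1 → c ≠ 1 → f.scaleRoots c ≠ f := by
  classical
  have hq : 2 ≤ q := by
    have h1 : 1 < Fintype.card F := Fintype.one_lt_card
    rw [hF] at h1
    by_contra hcon
    interval_cases q <;> simp at h1
  obtain ⟨p, hp⟩ := CharP.exists F
  obtain ⟨n, hpp, hcard⟩ := FiniteField.card F p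
  have : Fact p.Prime := ⟨hpp⟩
  have : NeZero m := ⟨by omega⟩
  obtain ⟨k, -, hk⟩ : ∃ k ≤ (n : ℕ), q = p ^ k :=
    (Nat.dvd_prime_pow hpp).1 (by rw [← hcard, hF]; exact dvd_pow_self _ (by norm_num))
  obtain ⟨l, hl, hl5, hlq, hld, hlm, hlo⟩ := exists_prime hq hm
  set E := FiniteField.Extension F p m with hE
  have hEcard : Nat.card E = (q ^ 2) ^ m := by
    rw [hE, FiniteField.natCard_extension, Nat.card_eq_fintype_card, hF]
  have hEfin : finrank F E = m := FiniteField.finrank_extension F p m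
  have : FiniteDimensional F E := inferInstance
  have : CharP E p := charP_of_injective_algebraMap (algebraMap F E).injective p
  have hQm1 : 1 < (q ^ 2) ^ m := Nat.one_lt_pow (by omega) (by nlinarith)
  -- the generator
  obtain ⟨η, hη⟩ := IsCyclic.exists_generator (α := Eˣ)
  have hηord : orderOf η = (q ^ 2) ^ m - 1 := by
    rw [orderOf_eq_card_of_forall_mem_zpowers hη, Nat.card_units, hEcard]
  obtain ⟨N, hN⟩ := hlm
  have hN0 : 0 < N := by
    rcases Nat.eq_zero_or_pos N with h0 | h0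
    · rw [h0] at hN; omega
    · exact h0
  have hξord : orderOf ((η ^ N : Eˣ) : E) = l := by
    rw [orderOf_units, orderOf_pow, hηord, hN, Nat.gcd_mul_left_left, Nat.mul_div_cancel _ hN0]
  set ξ : E := ((η ^ N : Eˣ) : E) with hξ
  have hξ0 : ξ ≠ 0 := Units.ne_zero _
  have hord : ∀ k : ℕ, ξ ^ k = 1 ↔ l ∣ k := fun k => by rw [← hξord, orderOf_dvd_iff_pow_eq_one]
  have hint : IsIntegral F ξ := Algebra.IsIntegral.isIntegral ξ
  -- the degree
  have hdeg : (minpoly F ξ).natDegree = m := by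
    set K := IntermediateField.adjoin F {ξ} with hK
    have h1 : finrank F K = (minpoly F ξ).natDegree := IntermediateField.adjoin.finrank hint
    have h2 : finrank F K * finrank K E = m := by rw [finrank_mul_finrank, hEfin]
    have h3 : Nat.card K = (q ^ 2) ^ finrank F K := by
      rw [Module.natCard_eq_pow_finrank (K := F), Nat.card_eq_fintype_card, hF]
    have h4 : l ∣ (q ^ 2) ^ finrank F K - 1 := by
      rw [← hord, ← h3]
      have := Fintype.ofFinite K
      have h5 : (⟨ξ, IntermediateField.mem_adjoin_simple_self F ξ⟩ : K) ^ (Nat.card K - 1) = 1 := by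
        rw [Nat.card_eq_fintype_card]
        exact FiniteField.pow_card_sub_one_eq_one _ (by
          intro h; exact hξ0 (congrArg Subtype.val h))
      exact congrArg Subtype.val h5
    rw [← h1]
    exact Nat.dvd_antisymm (Dvd.intro _ h2) (hld _ h4)
  -- the roots
  have hroot : ∀ θ : E, aeval θ (minpoly F ξ) = 0 → ∃ j < m, θ = ξ ^ (q ^ 2) ^ j := by
    intro θ hθ
    obtain ⟨τ, hτ⟩ := minpoly.exists_algEquiv_of_root' (hint.isAlgebraic) hθ
    obtain ⟨i, hi, hiτ⟩ := FiniteField.Extension.exists_frob_pow_eq F p m τ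
    refine ⟨i, hi, ?_⟩
    rw [← hτ, ← hiτ, FiniteField.Extension.frob_iterate_apply, Nat.card_eq_fintype_card, hF]
  have hl2 : ¬ l ∣ q ^ 2 - 1 := by
    intro h
    have h1 := hld 1 (by rw [pow_one]; exact h)
    have := Nat.le_of_dvd one_pos h1
    omega
  refine ⟨l, minpoly F ξ, hl, hl5, hlq, ?_, minpoly.irreducible hint, minpoly.monic hint, hdeg, ?_, ?_, ?_⟩
  · apply minpoly.dvd
    rw [map_sub, map_pow, aeval_X, map_one, (hord l).2 dvd_rfl, sub_self]
  · -- the constant term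
    have h1 := Cfsg.Agent.H117.OrePoly.coeff_zero_eq (F := F) (x := ξ) (by rw [hdeg, hEfin])
    have h2 : Algebra.norm F ξ = 1 := by
      apply (algebraMap F E).injective
      rw [FiniteField.algebraMap_norm_eq_pow, map_one, hord, hEcard, Nat.card_eq_fintype_card, hF]
      have h3 : q ^ 2 - 1 ∣ (q ^ 2) ^ m - 1 := by
        simpa using Nat.sub_dvd_pow_sub_pow (q ^ 2) 1 m
      obtain ⟨S, hS⟩ := h3
      have h4 : 0 < q ^ 2 - 1 := by
        have : 4 ≤ q ^ 2 := by nlinarith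
        omega
      rw [hS, Nat.mul_div_cancel_left _ h4]
      have h5 : l ∣ (q ^ 2 - 1) * S := by rw [← hS, hN]; exact Dvd.intro _ rfl
      exact (hl.dvd_mul.1 h5).resolve_left hl2
    have h3 : σ (Algebra.norm F ξ) = Algebra.norm F ξ := by rw [h2, map_one]
    rw [h1, map_mul, map_pow, map_neg, map_one] at h3
    exact mul_left_cancel₀ (pow_ne_zero _ (neg_ne_zero.2 one_ne_zero)) h3
  · -- coprime to the reverse
    rw [(minpoly.irreducible hint).coprime_iff_not_dvd]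
    intro hdv
    have h1 : aeval ξ (((minpoly F ξ).map σ).reverse) = 0 := by
      obtain ⟨g, hg⟩ := hdv
      rw [hg, map_mul, minpoly.aeval, zero_mul]
    let _ : Invertible (ξ⁻¹) := invertibleOfNonzero (inv_ne_zero hξ0)
    have h2 : aeval ξ⁻¹ ((minpoly F ξ).map σ) = 0 := by
      have h3 := eval₂_reverse_eq_zero_iff (algebraMap F E) ξ⁻¹ ((minpoly F ξ).map σ)
      rw [invOf_eq_inv, inv_inv] at h3
      exact h3.1 h1
    let φ : E →+* E := iterateFrobenius E p k
    have hφ : ∀ x, φ x = x ^ q := fun x => by rw [hk]; exact iterateFrobenius_def p k x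
    have hcomp : (algebraMap F E).comp σ = φ.comp (algebraMap F E) := by
      ext a
      simp [hφ, hσ]
    obtain ⟨θ, hθ⟩ : ∃ θ, φ θ = ξ⁻¹ := (Finite.injective_iff_surjective.1 φ.injective) _
    have h4 : aeval θ (minpoly F ξ) = 0 := by
      apply φ.injective
      rw [map_zero, ← h2, aeval_def, aeval_def, eval₂_map, hcomp, ← hθ, hom_eval₂]
    obtain ⟨j, hj, hjθ⟩ := hroot θ h4
    have h5 : ξ ^ ((q ^ 2) ^ j * q + 1) = 1 := by
      rw [pow_succ, pow_mul, ← hjθ, ← hφ, hθ, inv_mul_cancel₀ hξ0]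
    have h6 : (q ^ 2) ^ j * q = q ^ (2 * j + 1) := by rw [← pow_mul, pow_succ]
    rw [h6, hord] at h5
    exact hlo j h5
  · -- scaling
    intro c hc hc1 hcon
    have h1 := scaleRoots_aeval_eq_zero (R := F) (A := E) (p := minpoly F ξ) (a := ξ) (r := c)
      (minpoly.aeval F ξ)
    rw [hcon] at h1
    obtain ⟨j, hj, hjl⟩ := hroot _ h1
    have hpos : 1 ≤ (q ^ 2) ^ j := Nat.one_le_pow _ _ (by positivity)
    have h2 : algebraMap F E c = ξ ^ ((q ^ 2) ^ j - 1) := by
      apply mul_right_cancel₀ hξ0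
      rw [hjl, ← pow_succ, Nat.sub_add_cancel hpos]
    have h3 : c ^ l = 1 := by
      apply (algebraMap F E).injective
      rw [map_pow, h2, ← pow_mul, mul_comm, pow_mul, (hord l).2 dvd_rfl, one_pow, map_one]
    have h4 : Nat.gcd l (q + 1) = 1 := by
      rw [← Nat.Coprime, hl.coprime_iff_not_dvd]
      intro h
      apply hl2
      refine h.trans ⟨q - 1, ?_⟩
      obtain ⟨r, rfl⟩ : ∃ r, q = r + 1 := ⟨q - 1, by omega⟩
      have : (r + 1) ^ 2 = (r + 1 + 1) * r + 1 := by ring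
      rw [this]; simp
    apply hc1
    have h5 := orderOf_dvd_of_pow_eq_one h3
    have h6 := orderOf_dvd_of_pow_eq_one hc
    have h7 := Nat.dvd_gcd h5 h6
    rw [h4, Nat.dvd_one, orderOf_eq_one_iff] at h7
    exact h7

end Cfsg.Agent.H700.PwU
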