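import Cfsg.Agent.H98.Ore.CritB
import Cfsg.Agent.H700.PwU.Poly

/-!
# The criterion, with orders (S2465, PSU; helper700)

Copy of `H98.Ore.criterion` : the element `z` has `l`-power order.
-/

set_option autoImplicit false
set_option linter.unusedSectionVars false

namespace Cfsg.Agent.H700.PwU

open Module Polynomial Cfsg.Agent.H951 Matrix Cfsg.Agent.H98.Ore

variable {F V : Type*} [Field F] [Fintype F] [AddCommGroup V] [Module F V] [FiniteDimensional F V]
  {q : ℕ} {σ : F →+* F} {B : V → V → F}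
  {ι : Type} [Fintype ι] [DecidableEq ι] {w w' : ι → V}

/-- `g` is a product of two isometries of determinant one of `l`-power order -/
def IsPw (B : V → V → F) (l : ℕ) (g : End F V) : Prop :=
  ∃ a b : V ≃ₗ[F] V, a ∈ SGr B ∧ b ∈ SGr B ∧ (∃ c, orderOf a ∣ l ^ c) ∧ (∃ c, orderOf b ∣ l ^ c) ∧
    ∀ v, g v = a (b v)

/-- the order of an isometry acting as `Z` on a frame -/
theorem orderOf_lev (hB : HS q σ B) {e : ℕ} (he : e ≤ 1) (hn : finrank F V = 2 * Fintype.card ι + e)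
    (h : Fr B w w') {z : V ≃ₗ[F] V} (hz : z ∈ SGr B) {Z : Matrix ι ι F} (hZ : Z.det ≠ 0)
    (hzw : ∀ j, z (w j) = ∑ i, Z i j • w i) (hcop : IsCoprime Z.charpoly (Z.charpoly.map σ).reverse)
    (hc : e = 1 → Z.charpoly.eval (σ Z.det * Z.det⁻¹) ≠ 0) {l : ℕ} (hl : l.Prime) (hZl : Z ^ l = 1) :
    ∃ c, orderOf z ∣ l ^ c := by
  have hVf : Finite V := Module.finite_of_finite F
  have hfin : Finite (V ≃ₗ[F] V) := by
    have : Function.Injective (fun u : V ≃ₗ[F] V => (u : V → V)) := fun a b hab =>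
      LinearEquiv.ext fun v => congrFun hab v
    exact Finite.of_injective _ this
  have hn0 : orderOf z ≠ 0 := (isOfFinOrder_of_finite z).orderOf_pos.ne'
  obtain ⟨c, n', hn', hord⟩ : ∃ c n', ¬ l ∣ n' ∧ orderOf z = l ^ c * n' :=
    Nat.exists_eq_pow_mul_and_not_dvd hn0 l hl.ne_one
  have hcopn : Nat.Coprime l n' := (hl.coprime_iff_not_dvd).2 hn'
  obtain ⟨t, ht1, ht2⟩ := Nat.chineseRemainder hcopn 1 0
  have hZt : Z ^ t = Z := by
    have h1 : t % l = 1 % l := ht1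
    rw [← Nat.div_add_mod t l, h1, Nat.mod_eq_of_lt hl.one_lt, pow_add, pow_mul, hZl, one_pow, one_mul, pow_one]
  have hmul : ∀ (n : ℕ) (v : V), (z ^ n) v = ((z : End F V) ^ n) v := by
    intro n
    induction n with
    | zero => intro v; rfl
    | succ n ih =>
      intro v
      rw [pow_succ', pow_succ', LinearEquiv.mul_apply, ih, Module.End.mul_apply]
      rfl
  have hcoe : ((z ^ t : V ≃ₗ[F] V) : End F V) = (z : End F V) ^ t := by
    apply LinearMap.ext
    intro v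
    exact hmul t v
  have hzw1 : ∀ j, (z : End F V) (w j) = ∑ i, Z i j • w i := hzw
  have hztw : ∀ j, (z ^ t) (w j) = ∑ i, Z i j • w i := by
    intro j
    rw [hmul]
    have h1 := aeval_frame (x := (z : End F V)) (w := w) hzw1 (X ^ t) j
    rw [map_pow, aeval_X, map_pow, aeval_X, hZt] at h1
    exact h1
  have hfw : ∀ j, aeval ((z ^ t : V ≃ₗ[F] V) : End F V) Z.charpoly (w j) = 0 := by
    intro j
    rw [aeval_frame (x := ((z ^ t : V ≃ₗ[F] V) : End F V)) (w := w) hztw, Matrix.aeval_self_charpoly]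
    simp
  obtain ⟨u, -, hu⟩ := conj_same hB he hn h ((SGr B).pow_mem hz t) hz hZ hztw hzw hfw hcop hc
  have h3 : orderOf z = orderOf (z ^ t) := by
    have h4 : orderOf (u * z ^ t * u⁻¹) = orderOf (z ^ t) := orderOf_injective (MulAut.conj u).toMonoidHom
      (MulAut.conj u).injective (z ^ t)
    rw [← h4, ← hu]
  refine ⟨c, ?_⟩
  rw [h3, orderOf_dvd_iff_pow_eq_one, ← pow_mul, ← orderOf_dvd_iff_pow_eq_one, hord, mul_comm t]
  exact Nat.mul_dvd_mul_left _ ((Nat.modEq_zero_iff_dvd).1 ht2)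

/-- the criterion, with the order of `z` -/
theorem criterionP (hB : HS q σ B) {g : End F V} (hg : Isom B g) (hdet : LinearMap.det g = 1)
    (hι : finrank F V = 2 * Fintype.card ι ∨ finrank F V = 2 * Fintype.card ι + 1) {P Z h : Matrix ι ι F}
    (hP : Cor B g P) (hPZ : P * Z * h = h * Z) (hh : h.det = 1) (hZ0 : Z.det ≠ 0)
    (hZ : finrank F V = 2 * Fintype.card ι → σ Z.det = Z.det) (h1 : IsCoprime Z.charpoly (Z.charpoly.map σ).reverse)
    (h2 : Z.charpoly.eval (σ Z.det * Z.det⁻¹) ≠ 0) {l : ℕ} (hl : l.Prime) (hZl : Z ^ l = 1) : IsPw B l g := by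
  obtain ⟨w, w', hw, hPw⟩ := hP
  obtain ⟨e, he, hn⟩ : ∃ e, e ≤ 1 ∧ finrank F V = 2 * Fintype.card ι + e := by
    rcases hι with h3 | h3
    · exact ⟨0, by norm_num, by omega⟩
    · exact ⟨1, le_rfl, h3⟩
  have hPZ0 : (P * Z).det ≠ 0 := by
    have h3 := congrArg Matrix.det hPZ
    rw [Matrix.det_mul, Matrix.det_mul h, hh, mul_one, one_mul] at h3
    rw [h3]; exact hZ0
  have hh0 : h.det ≠ 0 := by rw [hh]; exact one_ne_zero
  -- g as an equivalence
  set G : V ≃ₗ[F] V := LinearEquiv.ofInjectiveEndo g (Isom.inj' hB hg) with hG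
  have hGg : ∀ v, G v = g v := fun v => rfl
  have hGg' : (G : V →ₗ[F] V) = g := by ext v; rfl
  have hGmem : G ∈ SGr B := mem_SGr.2 ⟨fun u v => by rw [hGg, hGg, hg], by rw [hGg', hdet]⟩
  -- the frame for z
  have hfr : Fr B (fun j => ∑ i, Z i j • w i) (fun j => G⁻¹ (∑ i, ist σ (P * Z) i j • w' i)) := by
    have hGG : ∀ v, g (G⁻¹ v) = v := fun v => by
      rw [← hGg, ← LinearEquiv.mul_apply, mul_inv_cancel]; rfl
    refine ⟨fun i j => ?_, fun i j => ?_, fun i j => ?_⟩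
    · rw [sum_left' hB]
      simp only [sum_right' hB]
      simp [hw.ww]
    · rw [← hg, hGG, map_sum]
      simp only [map_smul]
      rw [sum_left' hB]
      simp only [sum_right' hB, hPw]
      rw [← ist_dual hB hPZ0 i j]
      simp only [Matrix.mul_apply, Finset.sum_mul, Finset.mul_sum]
      rw [Finset.sum_comm]
      refine Finset.sum_congr rfl fun k _ => Finset.sum_congr rfl fun m _ => ?_
      ring
    · rw [← hg, hGG, hGG, sum_left' hB]
      simp only [sum_right' hB]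
      simp [hw.ww']
  -- the three isometries
  obtain ⟨z₀, hz, hzw, hzw', hzd⟩ := exists_isom hB he hn hw hfr
  obtain ⟨x₀, hx, hxw, hxw', hxd⟩ := exists_isom hB he hn hw (hw.trans hB (ist_dual hB hZ0))
  obtain ⟨k₀, hk, hkw, hkw', hkd⟩ := exists_isom hB he hn hw (hw.trans hB (ist_dual hB hh0))
  have hzd1 : LinearMap.det z₀ = 1 := by
    rcases Nat.le_one_iff_eq_zero_or_eq_one.1 he with h0 | h0
    · have h3 := det_even hB (by rw [hn, h0, add_zero]) hw hz hZ0 hzw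
      rw [hZ (by rw [hn, h0, add_zero])] at h3
      exact mul_right_cancel₀ hZ0 (by rw [h3, one_mul])
    · exact hzd h0
  have hxd1 : LinearMap.det x₀ = 1 := by
    rcases Nat.le_one_iff_eq_zero_or_eq_one.1 he with h0 | h0
    · have h3 := det_even hB (by rw [hn, h0, add_zero]) hw hx hZ0 hxw
      rw [hZ (by rw [hn, h0, add_zero])] at h3
      exact mul_right_cancel₀ hZ0 (by rw [h3, one_mul])
    · exact hxd h0
  have hkd1 : LinearMap.det k₀ = 1 := by
    rcases Nat.le_one_iff_eq_zero_or_eq_one.1 he with h0 | h0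
    · have h3 := det_even hB (by rw [hn, h0, add_zero]) hw hk hh0 hkw
      rwa [hh, map_one, mul_one] at h3
    · exact hkd h0
  set z : V ≃ₗ[F] V := LinearEquiv.ofInjectiveEndo z₀ (Isom.inj' hB hz) with hzdef
  set x : V ≃ₗ[F] V := LinearEquiv.ofInjectiveEndo x₀ (Isom.inj' hB hx) with hxdef
  set k : V ≃ₗ[F] V := LinearEquiv.ofInjectiveEndo k₀ (Isom.inj' hB hk) with hkdef
  have hz0 : (z : V →ₗ[F] V) = z₀ := by ext v; rfl
  have hx0 : (x : V →ₗ[F] V) = x₀ := by ext v; rfl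
  have hk0 : (k : V →ₗ[F] V) = k₀ := by ext v; rfl
  have hzm : z ∈ SGr B := mem_SGr.2 ⟨hz, by rw [hz0, hzd1]⟩
  have hxm : x ∈ SGr B := mem_SGr.2 ⟨hx, by rw [hx0, hxd1]⟩
  have hkm : k ∈ SGr B := mem_SGr.2 ⟨hk, by rw [hk0, hkd1]⟩
  have hxw1 : ∀ j, x (w j) = ∑ i, Z i j • w i := hxw
  have hzw1 : ∀ j, z (w j) = ∑ i, Z i j • w i := hzw
  have hxw1' : ∀ j, x (w' j) = ∑ i, ist σ Z i j • w' i := hxw'
  have hzw1' : ∀ j, z (w' j) = G⁻¹ (∑ i, ist σ (P * Z) i j • w' i) := hzw'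
  have hkw1' : ∀ j, k (w' j) = ∑ i, ist σ h i j • w' i := hkw'
  have hfw : ∀ j, aeval (x : End F V) Z.charpoly (w j) = 0 := by
    intro j
    rw [aeval_frame (x := (x : End F V)) hxw1, Matrix.aeval_self_charpoly]
    simp
  obtain ⟨u₁, hu₁, hzu⟩ := conj_same hB he hn hw hxm hzm hZ0 hxw1 hzw1 hfw h1 (fun _ => h2)
  -- the second conjugation
  set y : V ≃ₗ[F] V := k⁻¹ * (G * z) * k with hydef
  have hym : y ∈ SGr B :=
    (SGr B).mul_mem ((SGr B).mul_mem ((SGr B).inv_mem hkm) ((SGr B).mul_mem hGmem hzm)) hkm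
  have hcomp : ∀ (X Y : Matrix ι ι F) (a : V ≃ₗ[F] V), (∀ j, a (w' j) = ∑ i, X i j • w' i) →
      ∀ j, a (∑ i, Y i j • w' i) = ∑ i, (X * Y) i j • w' i := by
    intro X Y a ha j
    rw [map_sum]
    simp only [map_smul, ha, Finset.smul_sum, smul_smul]
    rw [Finset.sum_comm]
    simp only [← Finset.sum_smul]
    refine Finset.sum_congr rfl fun i _ => ?_
    rw [Matrix.mul_apply]
    congr 1
    exact Finset.sum_congr rfl fun k _ => mul_comm _ _
  have hGz : ∀ j, (G * z) (w' j) = ∑ i, ist σ (P * Z) i j • w' i := by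
    intro j
    rw [LinearEquiv.mul_apply, hzw1', ← LinearEquiv.mul_apply, mul_inv_cancel]
    rfl
  have hyw' : ∀ j, y (w' j) = ∑ i, ist σ Z i j • w' i := by
    intro j
    have h3 : k (∑ i, ist σ Z i j • w' i) = (G * z) (k (w' j)) := by
      rw [hcomp _ _ k hkw1', hkw1', hcomp _ _ (G * z) hGz, ← ist_mul, ← ist_mul, hPZ]
    rw [hydef, LinearEquiv.mul_apply, LinearEquiv.mul_apply, ← h3, ← LinearEquiv.mul_apply, inv_mul_cancel]
    rfl
  have hcoeff : Z.charpoly.coeff 0 ≠ 0 := by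
    intro h0
    apply hZ0
    rw [Matrix.det_eq_sign_charpoly_coeff, h0, mul_zero]
  have hxinv : (x : End F V) * ((x⁻¹ : V ≃ₗ[F] V) : End F V) = 1 := by
    ext v
    change x (x⁻¹ v) = v
    rw [← LinearEquiv.mul_apply, mul_inv_cancel]; rfl
  have hxinv' : ((x⁻¹ : V ≃ₗ[F] V) : End F V) * (x : End F V) = 1 := by
    ext v
    change x⁻¹ (x v) = v
    rw [← LinearEquiv.mul_apply, inv_mul_cancel]; rfl
  have hfw' : ∀ j, aeval (x : End F V) (Z.charpoly.map σ).reverse (w' j) = 0 := by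
    intro j
    have h3 := aeval_frame (x := (x : End F V)) (w := w') hxw1' (Z.charpoly.map σ).reverse j
    rw [h3]
    apply Finset.sum_eq_zero
    intro i _
    have h4 : B (aeval (x : End F V) (Z.charpoly.map σ).reverse (w' j)) (w i) = 0 := by
      rw [B_aeval hB (x := (x : End F V)) hx hxinv, map_rev_map hB.ss, aeval_reverse' hxinv', Module.End.mul_apply, hfw, map_zero,
        hB.zero_right]
    rw [h3, sum_left' hB] at h4
    simp only [hw.dual' hB, mul_ite, mul_one, mul_zero, Finset.sum_ite_eq', Finset.mem_univ, if_true] at h4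
    rw [h4, zero_smul]
  have hσZ0 : σ Z.det ≠ 0 := (map_ne_zero σ).2 hZ0
  have hist0 : (ist σ Z).det ≠ 0 := by
    rw [det_ist, map_inv₀]
    exact inv_ne_zero hσZ0
  obtain ⟨u₂, hu₂, hyu⟩ := conj_same hB he hn (hw.swap hB) hxm hym hist0 hxw1' hyw' hfw' (by
    rw [map_rev_map hB.ss, reverse_reverse' hcoeff]
    exact h1.symm) (by
    intro _ h3
    apply h2
    rw [det_ist, map_inv₀, inv_inv, map_inv₀, hB.ss] at h3
    set c := σ Z.det * Z.det⁻¹ with hcdef
    have hc0 : c ≠ 0 := mul_ne_zero hσZ0 (inv_ne_zero hZ0)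
    have h4 : (Z.det)⁻¹ * σ Z.det = c := mul_comm _ _
    rw [h4] at h3
    let _ : Invertible c⁻¹ := invertibleOfNonzero (inv_ne_zero hc0)
    have h5 := eval₂_reverse_eq_zero_iff (RingHom.id F) (c⁻¹) (Z.charpoly.map σ)
    have h6 : (⅟(c⁻¹) : F) = c := by rw [invOf_eq_inv, inv_inv]
    rw [h6, ← eval, h3, eq_self_iff_true, true_iff, ← eval, eval_map] at h5
    have h7 : c⁻¹ = σ c := by
      rw [hcdef, map_mul, map_inv₀, hB.ss, mul_inv, inv_inv, mul_comm]
    rw [h7, eval₂_at_apply] at h5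
    exact (map_eq_zero σ).1 h5)
  -- assemble
  set H : V ≃ₗ[F] V := k * u₂ * u₁⁻¹ with hH
  have hHm : H ∈ SGr B := (SGr B).mul_mem ((SGr B).mul_mem hkm hu₂) ((SGr B).inv_mem hu₁)
  have hfin : G * (z * H) = H * z := by
    have h3 : G * z = k * y * k⁻¹ := by rw [hydef]; group
    have h4 : x = u₁⁻¹ * z * u₁ := by rw [hzu]; group
    calc G * (z * H) = (G * z) * H := by group
      _ = k * (u₂ * x * u₂⁻¹) * k⁻¹ * H := by rw [h3, hyu]
      _ = k * (u₂ * (u₁⁻¹ * z * u₁) * u₂⁻¹) * k⁻¹ * H := by rw [← h4]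
      _ = H * z := by rw [hH]; group
  obtain ⟨c, hc⟩ := orderOf_lev hB he hn hw hzm hZ0 hzw1 h1 (fun _ => h2) hl hZl
  refine ⟨H * z * H⁻¹, z⁻¹, (SGr B).mul_mem ((SGr B).mul_mem hHm hzm) ((SGr B).inv_mem hHm), (SGr B).inv_mem hzm,
    ⟨c, ?_⟩, ⟨c, by rwa [orderOf_inv]⟩, ?_⟩
  · have h3 : orderOf (H * z * H⁻¹) = orderOf z := orderOf_injective (MulAut.conj H).toMonoidHom
      (MulAut.conj H).injective z
    rwa [h3]
  · have h3 : G = H * z * H⁻¹ * z⁻¹ := by
      calc G = G * (z * H) * (z * H)⁻¹ := by group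
        _ = H * z * (z * H)⁻¹ := by rw [hfin]
        _ = _ := by group
    intro v
    rw [← hGg, h3]
    rfl

end Cfsg.Agent.H700.PwU
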