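import Cfsg.Agent.H700.PwU.Crit
import Cfsg.Agent.H864.Ore.GlComm

/-!
# A good corner gives a product of two `l`-elements (helper700)
-/

set_option autoImplicit false
set_option linter.unusedSectionVars false

namespace Cfsg.Agent.H700.PwU

open Module Polynomial Cfsg.Agent.H951 Matrix Cfsg.Agent.H98.Ore

universe u

variable {F : Type*} {V : Type*} [Field F] [Fintype F] [AddCommGroup V] [Module F V] [FiniteDimensional F V]
  {q : ℕ} {σ : F →+* F} {B : V → V → F}

/-- a product of two `l`-elements for some prime `l ≥ 5` prime to `q` -/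
def IsPwE (q : ℕ) (B : V → V → F) (g : End F V) : Prop :=
  ∃ l : ℕ, l.Prime ∧ 5 ≤ l ∧ ¬ l ∣ q ∧ IsPw B l g

theorem Z_pow {ι : Type*} [Fintype ι] [DecidableEq ι] {Z : Matrix ι ι F} {f : F[X]} (hZ : Z.charpoly = f) {l : ℕ}
    (hfl : f ∣ X ^ l - 1) : Z ^ l = 1 := by
  obtain ⟨g, hg⟩ := hfl
  have h1 : aeval Z (X ^ l - 1 : F[X]) = 0 := by
    rw [hg, map_mul, ← hZ, Matrix.aeval_self_charpoly, zero_mul]
  rw [map_sub, map_pow, aeval_X, map_one, sub_eq_zero] at h1
  exact h1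

/-- T12 -/
theorem pw_of_good (hB : HS q σ B) (hn : 4 ≤ finrank F V) {g : End F V} (hg : Isom B g) (hdet : LinearMap.det g = 1)
    (h : Good B g) : IsPwE q B g := by
  obtain ⟨ι, hι1, hι2, P, hcard, hcor, hPd, x, p, hp, hpx⟩ := h
  have h2 : 2 ≤ Fintype.card ι := by omega
  have hq2 := LieClassical.HermBasic.two_le hB.card
  have hF4 : 4 ≤ Nat.card F := by
    rw [Nat.card_eq_fintype_card, hB.card]
    nlinarith
  obtain ⟨l, f, hl, hl5, hlq, hfl, hf, hfm, hfd, hf0, hcop, -⟩ := exists_poly hB.card σ hB.sig h2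
  obtain ⟨Z, k, hZf, hk, hPZ⟩ := Cfsg.Agent.H864.Ore.gl_comm hF4 P hPd x p hp hpx f hf hfm hfd h2
  have hc0 : f.coeff 0 ≠ 0 := by
    intro h0
    have h3 : f.eval 0 = 0 := by rw [← coeff_zero_eq_eval_zero, h0]
    have h4 := Polynomial.degree_eq_one_of_irreducible_of_root hf h3
    have h5 : f.natDegree = 1 := natDegree_eq_of_degree_eq_some h4
    omega
  have hdetZ : Z.det = (-1) ^ Fintype.card ι * f.coeff 0 := by
    rw [Matrix.det_eq_sign_charpoly_coeff, hZf]
  have hZ0 : Z.det ≠ 0 := by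
    rw [hdetZ]
    exact mul_ne_zero (pow_ne_zero _ (neg_ne_zero.2 one_ne_zero)) hc0
  have hσZ : σ Z.det = Z.det := by
    rw [hdetZ, map_mul, hf0, map_pow, map_neg, map_one]
  refine ⟨l, hl, hl5, hlq, criterionP hB hg hdet hcard hcor hPZ hk hZ0 (fun _ => hσZ) (by rw [hZf]; exact hcop) ?_ hl
    (Z_pow hZf hfl)⟩
  rw [hσZ, mul_inv_cancel₀ hZ0, hZf]
  intro h3
  have h4 := Polynomial.degree_eq_one_of_irreducible_of_root hf h3
  have h5 : f.natDegree = 1 := natDegree_eq_of_degree_eq_some h4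
  omega

end Cfsg.Agent.H700.PwU
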