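import Cfsg.Agent.H700.PwU.Good
import Cfsg.Agent.H700.PwU.Aniso
import Cfsg.Agent.H984.Ore.Asm
import Cfsg.Agent.H951.OreU.T7a
import Cfsg.Agent.H951.OreU.T6
import Cfsg.Agent.H24.Ore.CorStep
import Cfsg.Agent.H874.OreTransv
import Cfsg.Agent.H801.Ore.Even
import Cfsg.Agent.H984.Ore.Final
import Cfsg.Agent.H954.OreB
import Cfsg.Agent.H98.Ore.Main

/-!
# Every nonscalar isometry of determinant one is a product of two `l`-elements (helper700)

Copy of `H984.Ore.comm_rank_one_of` and `H98.Ore.comm_all` with orders.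
-/

set_option autoImplicit false
set_option linter.unusedSectionVars false

namespace Cfsg.Agent.H700.PwU

open Module Polynomial Cfsg.Agent.H951 Matrix Cfsg.Agent.H98.Ore
open Cfsg.Agent.LieClassical.HermBasic

universe u v

variable {F : Type u} [Field F] [Fintype F] {q : ℕ} {σ : F →+* F} {V : Type v} [AddCommGroup V] [Module F V]
  [FiniteDimensional F V] {B : V → V → F}

theorem pw_rank_one (hB : HS q σ B) (hn : 4 ≤ finrank F V) {g : End F V}
    (hg : Isom B g) (hdet : LinearMap.det g = 1)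
    {c : F} (hc : finrank F (LinearMap.range (g - c • (1 : End F V))) = 1) : IsPwE q B g := by
  obtain ⟨hcq, e, k, he, hk, hgv⟩ := Cfsg.Agent.H951.OreU.rank_one_form hB (by omega) hg hc
  have hc0 : c ≠ 0 := by
    rintro rfl
    rw [zero_pow (by omega)] at hcq
    exact zero_ne_one hcq
  have hns : ∀ c' : F, g ≠ c' • (1 : End F V) := by
    rintro c' rfl
    have h1 : c' • (1 : End F V) - c • (1 : End F V) = (c' - c) • (1 : End F V) := by rw [sub_smul]
    rw [h1] at hc
    by_cases h2 : c' - c = 0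
    · rw [h2, zero_smul, LinearMap.range_zero, finrank_bot] at hc
      omega
    · have h3 : LinearMap.range ((c' - c) • (1 : End F V)) = ⊤ := by
        rw [LinearMap.range_eq_top]
        intro v
        refine ⟨(c' - c)⁻¹ • v, ?_⟩
        rw [LinearMap.smul_apply, Module.End.one_apply, smul_smul, mul_inv_cancel₀ h2, one_smul]
      rw [h3, finrank_top] at hc
      omega
  obtain ⟨w, hw, hgw⟩ := Cfsg.Agent.H951.OreU.exists_typeI hB hg hns
  obtain ⟨U, g₁, b, h⟩ := Cfsg.Agent.H951.OreU.exists_step hB hg hw hgw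
  obtain ⟨hU, hfr⟩ := Cfsg.Agent.H951.OreU.Step.hs hB hg h
  obtain ⟨rfl, rfl⟩ := Cfsg.Agent.H984.Ore.step_rank_one hB hgv h
  have hdet' := Cfsg.Agent.H984.Ore.det_rank_one hB hc0 (by omega) hgv
  rw [hdet] at hdet'
  obtain ⟨m, hm⟩ : ∃ m, finrank F V = 2 * (m + 1) ∨ finrank F V = 2 * (m + 1) + 1 :=
    ⟨finrank F V / 2 - 1, by omega⟩
  have hm1 : 1 ≤ m := by omega
  -- the corner `(c ^ m)⁻¹, c, ..., c`
  have hcor : Cor B g (Matrix.fromBlocks (Matrix.of fun (_ _ : Unit) => (c ^ m)⁻¹) 0 0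
      (Matrix.diagonal fun _ : Fin m => c)) := by
    have hU' := Cfsg.Agent.H984.Ore.cor_scalar hU (c := c) (m := m) (by omega)
    rcases hm with hm | hm
    · obtain ⟨i0, hi0, hi⟩ := exists_trace_zero_ne hB.card
      have hi' : σ i0 = -i0 := by
        rw [hB.sig]
        linear_combination hi
      obtain ⟨R, hR, hcor⟩ := Cfsg.Agent.H24.Ore.cor_step hB hg h hU' i0 hi'
      have hd : (Matrix.fromBlocks (Matrix.of fun (_ _ : Unit) => i0 * B (g w) w) R 0
          (Matrix.diagonal fun _ : Fin m => c)).det = i0 * B (g w) w * c ^ m := by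
        rw [Cfsg.Agent.H984.Ore.det_block, Matrix.det_diagonal, Finset.prod_const, Finset.card_univ, Fintype.card_fin]
      have hd0 : i0 * B (g w) w * c ^ m ≠ 0 := mul_ne_zero (mul_ne_zero hi0 h.ne) (pow_ne_zero _ hc0)
      have h1 := Cfsg.Agent.H98.Ore.cor_det hB hg (by
        rw [Fintype.card_sum, Fintype.card_unit, Fintype.card_fin]
        omega) hcor (by rw [hd]; exact hd0)
      rw [hd, hdet, one_mul] at h1
      obtain ⟨R', hR', hcor'⟩ := Cfsg.Agent.H24.Ore.cor_step hB hg h hU' (i0 * (i0 * B (g w) w * c ^ m)⁻¹) (by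
        rw [map_mul, map_inv₀, ← h1, hi', neg_mul])
      rw [hR' rfl] at hcor'
      have h2 : i0 * (i0 * B (g w) w * c ^ m)⁻¹ * B (g w) w = (c ^ m)⁻¹ := by
        have h3 := h.ne
        have h4 : c ^ m ≠ 0 := pow_ne_zero _ hc0
        field_simp
      rw [h2] at hcor'
      exact hcor'
    · obtain ⟨R, hR, hcor⟩ := Cfsg.Agent.H24.Ore.cor_step_odd hB hg h (κ := Fin m) (by rw [Fintype.card_fin]; omega) hU' (c ^ m)⁻¹
      rw [hR rfl ⟨c, rfl⟩] at hcor
      exact hcor
  have hcm1 : Fintype.card (Unit ⊕ Fin m) = m + 1 := by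
    rw [Fintype.card_sum, Fintype.card_unit, Fintype.card_fin, add_comm]
  have hcard : finrank F V = 2 * Fintype.card (Unit ⊕ Fin m) ∨ finrank F V = 2 * Fintype.card (Unit ⊕ Fin m) + 1 := by
    rw [hcm1]
    exact hm
  obtain ⟨l, f, hl, hl5, hlq, hfl, hf, hfm, hfd, hf0, hfc, hfs⟩ := exists_poly hB.card σ hB.sig (m := m + 1) (by omega)
  have hfr0 : ∀ x : F, f.eval x ≠ 0 := by
    intro x hx
    have h1 := Polynomial.degree_eq_one_of_irreducible_of_root hf hx
    have h2 : f.natDegree = 1 := Polynomial.natDegree_eq_of_degree_eq_some h1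
    omega
  have hcoeff : f.coeff 0 ≠ 0 := by
    rw [Polynomial.coeff_zero_eq_eval_zero]
    exact hfr0 0
  -- determinants of matrices with characteristic polynomial `f`
  have hZdet : ∀ {ι : Type} [Fintype ι] [DecidableEq ι] {Z : Matrix ι ι F}, Z.charpoly = f →
      Z.det ≠ 0 ∧ σ Z.det = Z.det ∧ Z.charpoly.eval (σ Z.det * Z.det⁻¹) ≠ 0 := by
    intro ι _ _ Z hZ
    have h1 : Z.det ≠ 0 := by
      rw [Matrix.det_eq_sign_charpoly_coeff, hZ]
      exact mul_ne_zero (pow_ne_zero _ (neg_ne_zero.2 one_ne_zero)) hcoeff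
    refine ⟨h1, ?_, ?_⟩
    · rw [Matrix.det_eq_sign_charpoly_coeff, hZ, map_mul, hf0, map_pow, map_neg, map_one]
    · rw [hZ]
      exact hfr0 _
  by_cases hc1 : c = 1
  · -- `P = 1`
    subst hc1
    have hP1 : Matrix.fromBlocks (Matrix.of fun (_ _ : Unit) => ((1 : F) ^ m)⁻¹) 0 0
        (Matrix.diagonal fun _ : Fin m => (1 : F)) = 1 := by
      rw [one_pow, inv_one, Matrix.diagonal_one, ← Matrix.fromBlocks_one]
      congr 1
    rw [hP1] at hcor
    obtain ⟨Z, hZ⟩ := Cfsg.Agent.H984.Ore.exists_matrix (ι := Unit ⊕ Fin m) hfm (by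
      rw [hfd, Fintype.card_sum, Fintype.card_unit, Fintype.card_fin]; omega)
    obtain ⟨h1, h2, h3⟩ := hZdet hZ
    exact ⟨l, hl, hl5, hlq, criterionP hB hg hdet hcard (h := 1) hcor (by rw [one_mul, mul_one]) Matrix.det_one h1
      (fun _ => h2) (by rw [hZ]; exact hfc) h3 hl (Z_pow hZ hfl)⟩
  by_cases hcm : c ^ (m + 1) = 1
  · rcases hm with hm | hm
    · -- a multiple of a transvection
      have hee : B e e = 0 := by
        rw [hm] at hdet'
        have h1 : c ^ (2 * (m + 1)) = 1 := by rw [mul_comm, pow_mul, hcm, one_pow]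
        have h2 : c ^ (2 * (m + 1) - 1) * (c + k * B e e) = c ^ (2 * (m + 1)) +
            c ^ (2 * (m + 1) - 1) * k * B e e := by
          conv_rhs => rw [show 2 * (m + 1) = (2 * (m + 1) - 1) + 1 by omega, pow_succ]
          rw [Nat.add_sub_cancel]
          ring
        rw [h2, h1] at hdet'
        have h3 : c ^ (2 * (m + 1) - 1) * k * B e e = 0 := by linear_combination -hdet'
        exact (mul_eq_zero.1 h3).resolve_left (mul_ne_zero (pow_ne_zero _ hc0) hk)
      obtain ⟨u, φ, hu, hφ, huφ, hcor2⟩ := Cfsg.Agent.H951.OreU.frame_transv hB (m := m + 1) (by omega) hm hc0 hk he hee hgv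
      obtain ⟨Z, h', hZ, hh, hPZ⟩ := Cfsg.Agent.H874.OreTransv.gl_transv c (by rw [Fintype.card_fin]; exact hcm) u φ hu
        hφ huφ f hf hfm (by rw [hfd, Fintype.card_fin]) (by rw [Fintype.card_fin]; omega) (hfs c hcq hc1)
      obtain ⟨h1, h2, h3⟩ := hZdet hZ
      exact ⟨l, hl, hl5, hlq, criterionP hB hg hdet (Or.inl (by rw [Fintype.card_fin]; exact hm)) hcor2 hPZ hh h1
        (fun _ => h2) (by rw [hZ]; exact hfc) h3 hl (Z_pow hZ hfl)⟩
    · -- an anisotropic vector
      have h1 : c ^ (finrank F V - 1) = 1 := by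
        rw [hm, Nat.add_sub_cancel, mul_comm, pow_mul, hcm, one_pow]
      rw [h1, one_mul] at hdet'
      have hee : B e e ≠ 0 := by
        intro h2
        rw [h2, mul_zero, add_zero] at hdet'
        exact hc1 hdet'.symm
      obtain ⟨m', rfl⟩ : ∃ m', m = m' + 1 := ⟨m - 1, by omega⟩
      obtain ⟨u, φ, hu, hφ, huφ, hcor2⟩ := frame_aniso hB (m := m') hm hc0 hk hee hgv
      obtain ⟨Z, h', hZ, hh, hPZ⟩ := Cfsg.Agent.H874.OreTransv.gl_transv c (by rw [Fintype.card_fin]; exact hcm) u φ hu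
        hφ huφ f hf hfm (by rw [hfd, Fintype.card_fin]) (by rw [Fintype.card_fin]; omega) (hfs c hcq hc1)
      obtain ⟨h1, h2, h3⟩ := hZdet hZ
      exact ⟨l, hl, hl5, hlq, criterionP hB hg hdet (Or.inr (by rw [Fintype.card_fin]; exact hm)) hcor2 hPZ hh h1
        (fun _ => h2) (by rw [hZ]; exact hfc) h3 hl (Z_pow hZ hfl)⟩
  · -- `c ^ m * c ≠ 1`: a simple eigenvalue
    refine pw_of_good hB hn hg hdet ⟨Unit ⊕ Fin m, inferInstance, inferInstance, _, hcard, hcor, ?_, (c ^ m)⁻¹,
      (Matrix.diagonal fun _ : Fin m => c).charpoly, Cfsg.Agent.H984.Ore.charpoly_block _ _ _, ?_⟩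
    · rw [Cfsg.Agent.H984.Ore.det_block, Matrix.det_diagonal, Finset.prod_const, Finset.card_univ, Fintype.card_fin,
        inv_mul_cancel₀ (pow_ne_zero _ hc0)]
    · rw [Matrix.charpoly_diagonal, Finset.prod_const, Polynomial.eval_pow, Polynomial.eval_sub, Polynomial.eval_X,
        Polynomial.eval_C]
      apply pow_ne_zero
      intro h1
      apply hcm
      have h2 : (c ^ m)⁻¹ = c := sub_eq_zero.1 h1
      calc c ^ (m + 1) = c ^ m * c := pow_succ _ _
        _ = c ^ m * (c ^ m)⁻¹ := by rw [h2]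
        _ = 1 := mul_inv_cancel₀ (pow_ne_zero _ hc0)

theorem pw_all (hB : HS q σ B) (h4 : 4 ≤ finrank F V) {g : End F V}
    (hg : Isom B g) (hdet : LinearMap.det g = 1) (hs : ∀ c : F, g ≠ c • (1 : End F V)) : IsPwE q B g := by
  by_cases h1 : ∃ c : F, finrank F (LinearMap.range (g - c • (1 : End F V))) = 1
  · obtain ⟨c, hc⟩ := h1
    exact pw_rank_one hB h4 hg hdet hc
  push Not at h1
  have hr : ∀ c : F, 2 ≤ finrank F (LinearMap.range (g - c • (1 : End F V))) := by
    intro c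
    by_contra hcon
    have h5 : finrank F (LinearMap.range (g - c • (1 : End F V))) = 0 := by
      have := h1 c
      omega
    have h6 := Submodule.finrank_eq_zero.1 h5
    rw [LinearMap.range_eq_bot, sub_eq_zero] at h6
    exact hs c h6
  apply pw_of_good hB h4 hg hdet
  obtain ⟨w, U, g₁, b, hst, h2 | ⟨h2, c, hc1, hc2⟩⟩ := Cfsg.Agent.H954.OreB.exists_good_step hB hg hdet h4 hr
  · rcases Nat.even_or_odd' (finrank F V) with ⟨m, hm | hm⟩
    · exact Cfsg.Agent.H801.Ore.good_even hB hg hdet hm hst h2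
    · exact Cfsg.Agent.H984.OreFinal.good_odd hB hg hm hst h2
  · exact Cfsg.Agent.H98.Ore.good_four hB hg hdet h2 hst hc1 hc2

end Cfsg.Agent.H700.PwU
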